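import Cfsg.Agent.H556.OmMono
import Mathlib.Data.Fintype.Basic

/-!
# S4311, BOX A: the elements `x` and `w` (helper358)

In terms of an orthonormal frame `e₀, …, e₇`: `x = (e₀ e₁ e₂)`; `w` permutes cyclically the vectors
`e₀ - e₁, e₃ - e₄, e₆ + e₇` of norm `4` and `e₀ + e₁ - 2 e₂, e₃ + e₄ - 2 e₅, e₀ + ⋯ + e₅` of norm `12`.
-/

set_option autoImplicit false

namespace Cfsg.Agent.H358.D4

open Module Cfsg.Agent.H556.Om

variable {F : Type*} [Field F] {V : Type*} [AddCommGroup V] [Module F V] {f : V →ₗ[F] V →ₗ[F] F}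

/-- the 3-cycle -/
def cyc (i : Fin 3) : Fin 3 := i + 1

theorem cyc_inj : Function.Injective cyc := by decide

theorem mono_three {g : Fin 3 → V} (h2 : (2 : F) ≠ 0) (hF : Frame f g) :
    mono f g (fun _ => 1) cyc * mono f g (fun _ => 1) cyc * mono f g (fun _ => 1) cyc = 1 := by
  rw [mono_mul hF h2, mono_mul hF h2]
  refine mono_one hF h2 (fun j => ?_) fun j => ?_
  · simp only [mul_one]
  · revert j
    decide

/-- an endomorphism fixing the frame -/
theorem fix_mono {g : Fin 3 → V} {T : Module.End F V}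
    (hT : ∀ j, T (g j) = g j) (v : V) : T (mono f g (fun _ => 1) cyc v) = T v + mono f g (fun _ => 1) cyc v - v := by
  have h1 : ∀ j, T (f (g j) v • ((2 : F)⁻¹ • ((1 : F) • g (cyc j) - g j))) =
      f (g j) v • ((2 : F)⁻¹ • ((1 : F) • g (cyc j) - g j)) := by
    intro j
    rw [map_smul, map_smul, map_sub, map_smul, hT, hT]
  rw [mono_apply, map_add, map_sum, Finset.sum_congr rfl fun j _ => h1 j]
  abel

section elt

variable {e : Fin 8 → V}

/-- norm 4 -/
def g0 (e : Fin 8 → V) : Fin 3 → V := ![e 0 - e 1, e 3 - e 4, e 6 + e 7]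

/-- norm 12 -/
def g1 (F : Type*) [Field F] [Module F V] (e : Fin 8 → V) : Fin 3 → V :=
  ![e 0 + e 1 - (2 : F) • e 2, e 3 + e 4 - (2 : F) • e 5, e 0 + e 1 + e 2 + e 3 + e 4 + e 5]

theorem g0_g0 (hF : Frame f e) (i j : Fin 3) : f (g0 e i) (g0 e j) = if i = j then 4 else 0 := by
  fin_cases i <;> fin_cases j <;> simp [g0, hF.form] <;> norm_num

theorem g1_g1 (hF : Frame f e) (i j : Fin 3) : f (g1 F e i) (g1 F e j) = if i = j then 12 else 0 := by
  fin_cases i <;> fin_cases j <;> simp [g1, hF.form] <;> norm_num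

theorem g0_g1 (hF : Frame f e) (i j : Fin 3) : f (g0 e i) (g1 F e j) = 0 := by
  fin_cases i <;> fin_cases j <;> simp [g0, g1, hF.form]

theorem frame0 (h2 : (2 : F) ≠ 0) (hF : Frame f e) : Frame ((2 : F)⁻¹ • f) (g0 e) := by
  refine ⟨fun i => ?_, fun i j hij => ?_⟩
  · rw [LinearMap.smul_apply, LinearMap.smul_apply, g0_g0 hF, if_pos rfl, smul_eq_mul, inv_mul_eq_iff_eq_mul₀ h2]
    norm_num
  · rw [LinearMap.smul_apply, LinearMap.smul_apply, g0_g0 hF, if_neg hij, smul_zero]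

theorem frame1 (h6 : (6 : F) ≠ 0) (hF : Frame f e) : Frame ((6 : F)⁻¹ • f) (g1 F e) := by
  refine ⟨fun i => ?_, fun i j hij => ?_⟩
  · rw [LinearMap.smul_apply, LinearMap.smul_apply, g1_g1 hF, if_pos rfl, smul_eq_mul, inv_mul_eq_iff_eq_mul₀ h6]
    norm_num
  · rw [LinearMap.smul_apply, LinearMap.smul_apply, g1_g1 hF, if_neg hij, smul_zero]

/-- the first factor of `w` -/
noncomputable def W0 (f : V →ₗ[F] V →ₗ[F] F) (e : Fin 8 → V) : Module.End F V :=
  mono ((2 : F)⁻¹ • f) (g0 e) (fun _ => 1) cyc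

/-- the second factor of `w` -/
noncomputable def W1 (f : V →ₗ[F] V →ₗ[F] F) (e : Fin 8 → V) : Module.End F V :=
  mono ((6 : F)⁻¹ • f) (g1 F e) (fun _ => 1) cyc

/-- the map `w` -/
noncomputable def WW (f : V →ₗ[F] V →ₗ[F] F) (e : Fin 8 → V) : Module.End F V := W0 f e * W1 f e

theorem W0_g1 (hF : Frame f e) (i : Fin 3) : W0 f e (g1 F e i) = g1 F e i :=
  mono_orth fun j => by rw [LinearMap.smul_apply, LinearMap.smul_apply, g0_g1 hF, smul_zero]

theorem W1_g0 (hsym : ∀ u v, f u v = f v u) (hF : Frame f e) (i : Fin 3) : W1 f e (g0 e i) = g0 e i :=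
  mono_orth fun j => by rw [LinearMap.smul_apply, LinearMap.smul_apply, hsym, g0_g1 hF, smul_zero]

theorem W_comm (hsym : ∀ u v, f u v = f v u) (hF : Frame f e) : W0 f e * W1 f e = W1 f e * W0 f e := by
  apply LinearMap.ext
  intro v
  show W0 f e (W1 f e v) = W1 f e (W0 f e v)
  have h1 : W0 f e (W1 f e v) = W0 f e v + W1 f e v - v := fix_mono (W0_g1 hF) v
  have h2 : W1 f e (W0 f e v) = W1 f e v + W0 f e v - v := fix_mono (W1_g0 hsym hF) v
  rw [h1, h2]; abel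

theorem WW_three (h2 : (2 : F) ≠ 0) (h6 : (6 : F) ≠ 0) (hsym : ∀ u v, f u v = f v u) (hF : Frame f e) :
    WW f e * WW f e * WW f e = 1 := by
  have h3 : (W0 f e * W1 f e) ^ 3 = W0 f e ^ 3 * W1 f e ^ 3 := Commute.mul_pow (W_comm hsym hF) 3
  have h4 : W0 f e ^ 3 = 1 := by
    rw [pow_succ, pow_two]; exact mono_three h2 (frame0 h2 hF)
  have h5 : W1 f e ^ 3 = 1 := by
    rw [pow_succ, pow_two]; exact mono_three h2 (frame1 h6 hF)
  rw [h4, h5, one_mul, pow_succ, pow_two] at h3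
  exact h3

theorem WW_iso (h2 : (2 : F) ≠ 0) (h6 : (6 : F) ≠ 0) (hsym : ∀ u v, f u v = f v u) (hF : Frame f e) (u v : V) :
    f (WW f e u) (WW f e v) = f u v := by
  have key : ∀ (c : F) (g : Fin 3 → V), c ≠ 0 → Frame (c⁻¹ • f) g → ∀ u v,
      f (mono (c⁻¹ • f) g (fun _ => 1) cyc u) (mono (c⁻¹ • f) g (fun _ => 1) cyc v) = f u v := by
    intro c g hc hg u v
    have h1 := mono_form (fun u v => by
      rw [LinearMap.smul_apply, LinearMap.smul_apply, LinearMap.smul_apply, LinearMap.smul_apply, hsym]) hg h2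
      (s := fun _ => 1) (fun _ => one_mul 1) cyc_inj u v
    rw [LinearMap.smul_apply, LinearMap.smul_apply, LinearMap.smul_apply, LinearMap.smul_apply, smul_eq_mul,
      smul_eq_mul] at h1
    exact mul_left_cancel₀ (inv_ne_zero hc) h1
  show f (W0 f e (W1 f e u)) (W0 f e (W1 f e v)) = f u v
  rw [W0, W1, key 2 _ h2 (frame0 h2 hF), key 6 _ h6 (frame1 h6 hF)]

theorem WW_g0 (h2 : (2 : F) ≠ 0) (hsym : ∀ u v, f u v = f v u) (hF : Frame f e) (i : Fin 3) :
    WW f e (g0 e i) = g0 e (cyc i) := by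
  show W0 f e (W1 f e (g0 e i)) = _
  rw [W1_g0 hsym hF, W0, mono_e (frame0 h2 hF) h2, one_smul]

theorem WW_g1 (h2 : (2 : F) ≠ 0) (h6 : (6 : F) ≠ 0) (hF : Frame f e) (i : Fin 3) :
    WW f e (g1 F e i) = g1 F e (cyc i) := by
  show W0 f e (W1 f e (g1 F e i)) = _
  rw [W1, mono_e (frame1 h6 hF) h2, one_smul, W0_g1 hF]

/-- `w (e₀ - e₁) = e₃ - e₄` -/
theorem WW_a (h2 : (2 : F) ≠ 0) (hsym : ∀ u v, f u v = f v u) (hF : Frame f e) : WW f e (e 0 - e 1) = e 3 - e 4 :=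
  WW_g0 h2 hsym hF 0

/-- `w (e₁ - e₂) = e₄ - e₅` -/
theorem WW_b (h2 : (2 : F) ≠ 0) (h6 : (6 : F) ≠ 0) (hsym : ∀ u v, f u v = f v u) (hF : Frame f e) :
    WW f e (e 1 - e 2) = e 4 - e 5 := by
  have h1 : ∀ a b c : V, b - c = (2 : F)⁻¹ • ((a + b - (2 : F) • c) - (a - b)) := by
    intro a b c
    have : (a + b - (2 : F) • c) - (a - b) = (2 : F) • (b - c) := by rw [smul_sub, two_smul, two_smul]; abel
    rw [this, smul_smul, inv_mul_cancel₀ h2, one_smul]
  rw [h1 (e 0) (e 1) (e 2), map_smul, map_sub]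
  have h3 : WW f e (e 0 + e 1 - (2 : F) • e 2) = e 3 + e 4 - (2 : F) • e 5 := WW_g1 h2 h6 hF 0
  rw [h3, WW_a h2 hsym hF, ← h1]

/-- the first three vectors -/
def e3 (e : Fin 8 → V) : Fin 3 → V := ![e 0, e 1, e 2]

theorem frame3 (hF : Frame f e) : Frame f (e3 e) := by
  refine ⟨fun i => ?_, fun i j hij => ?_⟩
  · fin_cases i <;> simp [e3, hF.form]
  · fin_cases i <;> fin_cases j <;> simp_all [e3, hF.form]

/-- the map `x` -/
noncomputable def XX (f : V →ₗ[F] V →ₗ[F] F) (e : Fin 8 → V) : Module.End F V :=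
  mono f (e3 e) (fun _ => 1) cyc

theorem XX_three (h2 : (2 : F) ≠ 0) (hF : Frame f e) : XX f e * XX f e * XX f e = 1 := mono_three h2 (frame3 hF)

theorem XX_iso (h2 : (2 : F) ≠ 0) (hsym : ∀ u v, f u v = f v u) (hF : Frame f e) (u v : V) :
    f (XX f e u) (XX f e v) = f u v :=
  mono_form hsym (frame3 hF) h2 (fun _ => one_mul 1) cyc_inj u v

theorem XX_e (h2 : (2 : F) ≠ 0) (hF : Frame f e) : XX f e (e 0) = e 1 ∧ XX f e (e 1) = e 2 ∧ XX f e (e 2) = e 0 := by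
  have h1 : ∀ i, XX f e (e3 e i) = e3 e (cyc i) := fun i => by rw [XX, mono_e (frame3 hF) h2, one_smul]
  exact ⟨h1 0, h1 1, h1 2⟩

theorem XX_rng (u : V) : XX f e u - u ∈ Submodule.span F {e 0 - e 1, e 1 - e 2} := by
  rw [XX, mono_apply, add_sub_cancel_left]
  refine Submodule.sum_mem _ fun j _ => Submodule.smul_mem _ _ (Submodule.smul_mem _ _ ?_)
  have ha : e 0 - e 1 ∈ Submodule.span F {e 0 - e 1, e 1 - e 2} := Submodule.subset_span (Or.inl rfl)
  have hb : e 1 - e 2 ∈ Submodule.span F {e 0 - e 1, e 1 - e 2} := Submodule.subset_span (Or.inr rfl)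
  rw [one_smul]
  fin_cases j
  · have h1 := Submodule.neg_mem _ ha
    rw [neg_sub] at h1
    exact h1
  · have h1 := Submodule.neg_mem _ hb
    rw [neg_sub] at h1
    exact h1
  · show e 0 - e 2 ∈ _
    have : e 0 - e 2 = (e 0 - e 1) + (e 1 - e 2) := by abel
    rw [this]; exact Submodule.add_mem _ ha hb

end elt

end Cfsg.Agent.H358.D4
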