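import Cfsg.Agent.H358.D4.Mon
import Cfsg.Agent.H358.D4.Wr
import Cfsg.Agent.H358.D4.Elt

/-!
# S4311, the row `PΩ₈⁺(q)`: BOX A (helper358)

`boxA`: `BoxA Q` for the forms `Q` over finite fields with `BoxN Q`.
-/

set_option autoImplicit false
set_option linter.unusedSectionVars false

namespace Cfsg.Agent.H358.D4

open Module QuadraticMap Cfsg.Agent.H167.OP Cfsg.Agent.H170.HL Cfsg.Agent.H170.HL.OmRow Cfsg.Agent.H556.Om
open Cfsg Subgroup Cfsg.Agent.H485.RV Cfsg.Agent.H561.RV Cfsg.Agent.H561.D4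

variable {F : Type} [Field F] {ι : Type} [Fintype ι] [DecidableEq ι] {Q : QuadraticForm F (ι → F)}

/-- isometries of order three belong to `Ω` -/
theorem exists_of_three (h : Q8 Q) {z : Module.End F (ι → F)} (h3 : z * z * z = 1)
    (hz : ∀ u v, polarBilin Q (z u) (z v) = polarBilin Q u v) : ∃ g : Cfsg.Omega F (⇑Q), rep (inc (⇑Q)) g = z := by
  obtain ⟨A, hA⟩ := exists_of_iso (⇑Q) z (z * z) (by rw [← mul_assoc]; exact h3) h3 (Q_eq_of h.two hz)
  have hA3 : A ^ 3 = 1 := by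
    apply rep_injective inc'_injective
    rw [pow_succ, pow_two, map_mul, map_mul, hA, h3, map_one]
  exact ⟨⟨A, mem_omega_of_odd h.gq (by decide : Odd 3) hA3⟩, hA⟩

theorem pow_three_of {g : Cfsg.Omega F (⇑Q)} {z : Module.End F (ι → F)} (h3 : z * z * z = 1)
    (hg : rep (inc (⇑Q)) g = z) : g ^ 3 = 1 := by
  apply rep_inj (Q := Q)
  rw [pow_succ, pow_two, map_mul, map_mul, hg, h3, map_one]

/-- the elements `x` and `w` in `Ω` -/
theorem exists_xw (h : Q8 Q) : ∃ (x w : Cfsg.Omega F (⇑Q)) (v : ι → F), Thr (polarBilin Q) (rep (inc (⇑Q))) x v ∧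
    w ^ 3 = 1 ∧ Perp (polarBilin Q) (rep (inc (⇑Q))) x v (w * x * w⁻¹) (rep (inc (⇑Q)) w v) := by
  obtain ⟨E, hE⟩ := h.frame
  have h6 : (6 : F) ≠ 0 := by
    have : (6 : F) = 2 * 3 := by norm_num
    rw [this]; exact mul_ne_zero h.two h.three
  let ε : Fin 8 ≃ Fin 2 × A4 := (Fintype.equivFinOfCardEq (show Fintype.card (Fin 2 × A4) = 8 from rfl)).symm
  obtain ⟨e, he⟩ : ∃ e, e = E ∘ ε := ⟨_, rfl⟩
  have hF : Frame (polarBilin Q) e := he ▸ hE.comp ε.injective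
  obtain ⟨x, hx⟩ := exists_of_three h (XX_three h.two hF) (XX_iso h.two polar_symm hF)
  obtain ⟨w, hw⟩ := exists_of_three h (WW_three h.two h6 polar_symm hF) (WW_iso h.two h6 polar_symm hF)
  obtain ⟨x0, x1, x2⟩ := XX_e h.two hF
  have hxa : rep (inc (⇑Q)) x (e 0 - e 1) = e 1 - e 2 := by rw [hx, map_sub, x0, x1]
  have hxb : rep (inc (⇑Q)) x (e 1 - e 2) = e 2 - e 0 := by rw [hx, map_sub, x1, x2]
  have hwa : rep (inc (⇑Q)) w (e 0 - e 1) = e 3 - e 4 := by rw [hw, WW_a h.two polar_symm hF]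
  have hwb : rep (inc (⇑Q)) w (e 1 - e 2) = e 4 - e 5 := by rw [hw, WW_b h.two h6 polar_symm hF]
  have key : ∀ a b c d : Fin 8, a ≠ c → a ≠ d → b ≠ c → b ≠ d → polarBilin Q (e a - e b) (e c - e d) = 0 := by
    intro a b c d h1 h2 h3 h4
    rw [map_sub, map_sub, LinearMap.sub_apply, LinearMap.sub_apply, hF.orth _ _ h1, hF.orth _ _ h2, hF.orth _ _ h3,
      hF.orth _ _ h4]
    simp
  refine ⟨x, w, e 0 - e 1, ⟨pow_three_of (XX_three h.two hF) hx, ?_, ?_, ?_⟩,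
    pow_three_of (WW_three h.two h6 polar_symm hF) hw, ?_⟩
  · rw [map_sub, map_sub, LinearMap.sub_apply, LinearMap.sub_apply, hF.self, hF.self, hF.orth 0 1 (by decide),
      hF.orth 1 0 (by decide)]
    have : (2 : F) - 0 - (0 - 2) = 2 * 2 := by norm_num
    rw [this]
    exact mul_ne_zero h.two h.two
  · rw [hxa, hxb]; abel
  · intro u
    rw [hxa, hx]
    exact XX_rng u
  · refine Perp.of ?_ ?_ ?_ ?_
    · rw [hwa]; exact key _ _ _ _ (by decide) (by decide) (by decide) (by decide)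
    · rw [conj_ap, hxa, hwb]; exact key _ _ _ _ (by decide) (by decide) (by decide) (by decide)
    · rw [hxa, hwa]; exact key _ _ _ _ (by decide) (by decide) (by decide) (by decide)
    · rw [conj_ap, hxa, hwb]; exact key _ _ _ _ (by decide) (by decide) (by decide) (by decide)

/-- **BOX A** (`BoxZ Q` is not needed) -/
theorem boxA' [Finite F] (hN : BoxN Q) : BoxA Q := by
  intro H hH hT
  have hfin : Finite (Cfsg.Omega F (⇑Q)) := inferInstance
  have h := hH.q8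
  have EE := env h
  have hpos : Nat.card H ≠ 0 := by
    intro h0
    exact hH.char (by rw [h0, Nat.cast_zero])
  have hi2 : ¬ 2 ∣ H.index := fun hd => by
    have h1 := Nat.Coprime.eq_one_of_dvd (hH.hall.coprime_dvd_right hd).symm hH.two
    omega
  have hi3 : ¬ 3 ∣ H.index := fun hd => by
    have h1 := Nat.Coprime.eq_one_of_dvd (hH.hall.coprime_dvd_right hd).symm hH.three
    omega
  obtain ⟨E, hF, hPH⟩ := exists_PM h hi2
  obtain ⟨x₀, w₀, v₀, T₀, hw₀, hp₀⟩ := exists_xw h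
  obtain ⟨x, w, v, T, hx, hw3, hw, ho⟩ := exists_pair EE T₀ hw₀ hp₀ hi3
  obtain ⟨N, hNH, hN2, hNn, hNZ⟩ := hT
  obtain ⟨A, hA, hA2, hAc, hAZ⟩ := exists_elem (Z := Subgroup.center (Cfsg.Omega F (⇑Q))) (PM_isPGroup h.two hF) hPH
    hN2 hNn hNZ (fun n hn => diag h hF hn) (by
      intro M hMN hMH hsq hcom hne
      by_contra hcon
      push Not at hcon
      obtain ⟨b, hb, hbZ⟩ := hne
      exact class2 EE T (hN2.to_le hMN) (hMH x hx) hsq hcom hcon hb hbZ)
  obtain ⟨O, S⟩ := exists_sys EE hA hA2 hAc hAZ (fun W hW hWH => irr h hF hPH W hW hWH)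
  have h27 : 27 ∣ Nat.card H := by
    obtain ⟨a, b, ha, -, -, h3, -, -⟩ := hN
    have h1 : 3 ^ (4 * a + 1) ∣ Nat.card (Cfsg.Omega F (⇑Q)) := by
      rw [← h3]; exact Nat.ordProj_dvd _ _
    have h2 : 3 ^ 3 ∣ Nat.card H * H.index := by
      rw [H.card_mul_index]
      exact (pow_dvd_pow 3 (by omega)).trans h1
    exact (Nat.Coprime.pow_left 3 ((Nat.Prime.coprime_iff_not_dvd Nat.prime_three).2 hi3)).dvd_of_dvd_mul_right h2
  obtain ⟨U, h1, h2, h3, h4, h5⟩ := S.dec EE T hx hw3 hw ho h27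
  exact ⟨U, ⟨h1, h2, h3, h4⟩, fun g hg => ⟨h5 g hg, h5 g⁻¹ (H.inv_mem hg)⟩⟩

/-- **BOX A**, in the form of the plan -/
theorem boxA [Finite F] (hN : BoxN Q) (_hZ : BoxZ Q) : BoxA Q := boxA' hN

end Cfsg.Agent.H358.D4
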