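import Cfsg.Agent.H358.D4.Env
import Mathlib.LinearAlgebra.Dimension.Constructions
import Mathlib.LinearAlgebra.DFinsupp
import Mathlib.Algebra.DirectSum.Module

/-!
# S4311, BOX A: systems of imprimitivity of orthogonal subspaces (helper358)

`Sys B ρ H O`: `O` is a set of proper nonzero mutually orthogonal subspaces with sum `V`, permuted transitively by `H`.
`exists_sys`: it exists if `H` is irreducible and normalises a noncentral elementary abelian 2-group.
-/

set_option autoImplicit false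

namespace Cfsg.Agent.H358.D4

open Module Cfsg.Agent.H167.OP

variable {F : Type*} [Field F] {V : Type*} [AddCommGroup V] [Module F V] {G : Type*} [Group G]
  {B : V →ₗ[F] V →ₗ[F] F} {ρ : Representation F G V}

/-- transitive orthogonal systems -/
structure Sys (B : V →ₗ[F] V →ₗ[F] F) (ρ : Representation F G V) (H : Subgroup G) (O : Set (Submodule F V)) : Prop where
  orth : ∀ W ∈ O, ∀ W' ∈ O, W ≠ W' → ∀ u ∈ W, ∀ w ∈ W', B u w = 0
  inv : ∀ W ∈ O, ∀ h ∈ H, W.map (ρ h) ∈ O
  top : ∀ S : Submodule F V, (∀ W ∈ O, W ≤ S) → S = ⊤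
  trans : ∀ W ∈ O, ∀ W' ∈ O, ∃ h ∈ H, W.map (ρ h) = W'
  ne : O.Nonempty
  ntop : ∀ W ∈ O, W ≠ ⊤
  nbot : ∀ W ∈ O, W ≠ ⊥

theorem map_map (g h : G) (W : Submodule F V) : (W.map (ρ g)).map (ρ h) = W.map (ρ (h * g)) := by
  rw [map_mul, Module.End.mul_eq_comp, Submodule.map_comp]

theorem map_one' (W : Submodule F V) : W.map (ρ 1) = W := by
  rw [map_one]; exact Submodule.map_id _

/-! ### joint eigenspaces -/

/-- the joint eigenspace -/
def Ws (ρ : Representation F G V) (A : Subgroup G) (χ : G → F) : Submodule F V where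
  carrier := {u | ∀ a ∈ A, ρ a u = χ a • u}
  zero_mem' := fun a _ => by rw [map_zero, smul_zero]
  add_mem' := fun {u w} hu hw a ha => by rw [map_add, hu a ha, hw a ha, smul_add]
  smul_mem' := fun c u hu a ha => by rw [map_smul, hu a ha, smul_comm]

theorem mem_Ws {A : Subgroup G} {χ : G → F} {u : V} : u ∈ Ws ρ A χ ↔ ∀ a ∈ A, ρ a u = χ a • u := Iff.rfl

theorem Ws_congr {A : Subgroup G} {χ χ' : G → F} (h : ∀ a ∈ A, χ a = χ' a) : Ws ρ A χ = Ws ρ A χ' := by
  ext u
  rw [mem_Ws, mem_Ws]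
  exact ⟨fun h' a ha => by rw [h' a ha, h a ha], fun h' a ha => by rw [h' a ha, h a ha]⟩

theorem map_Ws {A : Subgroup G} {h : G} (hA : ∀ a ∈ A, h * a * h⁻¹ ∈ A) (hA' : ∀ a ∈ A, h⁻¹ * a * h ∈ A) (χ : G → F) :
    (Ws ρ A χ).map (ρ h) = Ws ρ A (fun a => χ (h⁻¹ * a * h)) := by
  ext u
  constructor
  · rintro ⟨w, hw, rfl⟩ a ha
    have h1 := hw _ (hA' a ha)
    rw [← map_smul, ← h1, ← mul_ap, ← mul_ap]
    congr 2
    group
  · intro hu
    refine ⟨ρ h⁻¹ u, fun a ha => ?_, ap_inv ρ h u⟩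
    have h1 := hu _ (hA a ha)
    have h2 : h⁻¹ * (h * a * h⁻¹) * h = a := by group
    dsimp only at h1
    rw [h2] at h1
    rw [← map_smul, ← h1, ← mul_ap, ← mul_ap]
    congr 2
    group

theorem exists_eig [Finite G] (E : Env B ρ) {A : Subgroup G} (hA2 : ∀ a ∈ A, a * a = 1)
    (hab : ∀ a ∈ A, ∀ b ∈ A, a * b = b * a) : ∃ v : V, v ≠ 0 ∧ ∀ a ∈ A, ρ a v = v ∨ ρ a v = -v := by
  classical
  have key : ∀ s : Finset G, (∀ a ∈ s, a ∈ A) → ∃ v : V, v ≠ 0 ∧ ∀ a ∈ s, ρ a v = v ∨ ρ a v = -v := by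
    intro s
    induction s using Finset.induction_on with
    | empty =>
      intro _
      have h1 : 0 < finrank F V := by rw [E.dim]; norm_num
      have : Nontrivial V := Module.nontrivial_of_finrank_pos h1
      obtain ⟨v, hv⟩ := exists_ne (0 : V)
      exact ⟨v, hv, fun a ha => absurd ha (Finset.notMem_empty a)⟩
    | insert a s _ ih =>
      intro hs
      obtain ⟨v, hv, hvs⟩ := ih fun b hb => hs b (Finset.mem_insert_of_mem hb)
      have ha : a ∈ A := hs a (Finset.mem_insert_self a s)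
      by_cases h0 : v + ρ a v = 0
      · refine ⟨v, hv, fun b hb => ?_⟩
        rcases Finset.mem_insert.1 hb with rfl | hb
        · exact Or.inr (eq_neg_of_add_eq_zero_right h0)
        · exact hvs b hb
      · refine ⟨v + ρ a v, h0, fun b hb => ?_⟩
        rcases Finset.mem_insert.1 hb with rfl | hb'
        · left
          rw [map_add, ← mul_ap, hA2 _ ha, one_ap, add_comm]
        · have hbA : b ∈ A := hs b hb
          rw [map_add, ← mul_ap, hab b hbA a ha, mul_ap]
          rcases hvs b hb' with h | h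
          · left; rw [h]
          · right; rw [h, map_neg, neg_add]
  have : Fintype G := Fintype.ofFinite G
  obtain ⟨v, hv, h⟩ := key (Finset.univ.filter (· ∈ A)) fun a ha => (Finset.mem_filter.1 ha).2
  exact ⟨v, hv, fun a ha => h a (Finset.mem_filter.2 ⟨Finset.mem_univ a, ha⟩)⟩

theorem exists_sys [Finite G] (E : Env B ρ) {H A : Subgroup G} (hHA : ∀ h ∈ H, ∀ a ∈ A, h * a * h⁻¹ ∈ A)
    (hA2 : ∀ a ∈ A, a * a = 1) (hab : ∀ a ∈ A, ∀ b ∈ A, a * b = b * a) (hA : ∃ a ∈ A, a ∉ Subgroup.center G)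
    (hirr : ∀ W : Submodule F V, W ≠ ⊥ → (∀ h ∈ H, ∀ w ∈ W, ρ h w ∈ W) → W = ⊤) :
    ∃ O : Set (Submodule F V), Sys B ρ H O := by
  classical
  obtain ⟨v, hv, hvA⟩ := exists_eig E hA2 hab
  have hHA' : ∀ h ∈ H, ∀ a ∈ A, h⁻¹ * a * h ∈ A := fun h hh a ha => by
    have := hHA h⁻¹ (H.inv_mem hh) a ha
    rwa [inv_inv] at this
  let χ : G → F := fun a => if ρ a v = v then 1 else -1
  have hχ : ∀ a, χ a = 1 ∨ χ a = -1 := fun a => by
    simp only [χ]
    split_ifs
    · exact Or.inl rfl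
    · exact Or.inr rfl
  have hvW : v ∈ Ws ρ A χ := by
    intro a ha
    simp only [χ]
    split_ifs with h
    · rw [one_smul]; exact h
    · rw [neg_one_smul]; exact (hvA a ha).resolve_left h
  have hmap : ∀ h ∈ H, (Ws ρ A χ).map (ρ h) = Ws ρ A (fun a => χ (h⁻¹ * a * h)) := fun h hh =>
    map_Ws (hHA h hh) (hHA' h hh) χ
  have htop : ∀ S : Submodule F V, (∀ W ∈ {W | ∃ h ∈ H, W = (Ws ρ A χ).map (ρ h)}, W ≤ S) → S = ⊤ := by
    intro S hS
    have h1 := hirr (⨆ h : H, (Ws ρ A χ).map (ρ h)) ?_ ?_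
    · rw [eq_top_iff, ← h1]
      exact iSup_le fun h => hS _ ⟨h, h.2, rfl⟩
    · intro h0
      have h2 : (Ws ρ A χ).map (ρ (1 : H)) ≤ ⨆ h : H, (Ws ρ A χ).map (ρ h) :=
        le_iSup (fun h : H => (Ws ρ A χ).map (ρ (h : G))) 1
      rw [h0] at h2
      have h3 := h2 ⟨v, hvW, rfl⟩
      rw [Submodule.mem_bot] at h3
      apply hv
      rw [← h3, Subgroup.coe_one, one_ap]
    · intro g hg w hw
      have h2 : (⨆ h : H, (Ws ρ A χ).map (ρ h)).map (ρ g) ≤ ⨆ h : H, (Ws ρ A χ).map (ρ h) := by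
        rw [Submodule.map_iSup]
        refine iSup_le fun h => ?_
        rw [map_map]
        exact le_iSup (fun h : H => (Ws ρ A χ).map (ρ (h : G))) (⟨g, hg⟩ * h)
      exact h2 ⟨w, hw, rfl⟩
  refine ⟨{W | ∃ h ∈ H, W = (Ws ρ A χ).map (ρ h)}, ⟨?_, ?_, htop, ?_, ?_, ?_, ?_⟩⟩
  · rintro _ ⟨g, hg, rfl⟩ _ ⟨h, hh, rfl⟩ hne u hu w hw
    rw [hmap g hg] at hne hu
    rw [hmap h hh] at hne hw
    obtain ⟨a, ha, hane⟩ : ∃ a ∈ A, χ (g⁻¹ * a * g) ≠ χ (h⁻¹ * a * h) := by
      by_contra hcon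
      push Not at hcon
      exact hne (Ws_congr hcon)
    have h1 := E.iso a u w
    rw [hu a ha, hw a ha, map_smul, map_smul, LinearMap.smul_apply, smul_eq_mul, smul_eq_mul, ← mul_assoc] at h1
    have h2 : χ (h⁻¹ * a * h) * χ (g⁻¹ * a * g) = -1 := by
      rcases hχ (g⁻¹ * a * g) with h3 | h3 <;> rcases hχ (h⁻¹ * a * h) with h4 | h4
      · exact absurd (h3.trans h4.symm) hane
      · rw [h3, h4, mul_one]
      · rw [h3, h4, one_mul]
      · exact absurd (h3.trans h4.symm) hane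
    rw [h2, neg_one_mul] at h1
    have h3 : (2 : F) * B u w = 0 := by
      rw [two_mul]
      nth_rewrite 1 [← h1]
      exact neg_add_cancel _
    exact (mul_eq_zero.1 h3).resolve_left E.two
  · rintro _ ⟨g, hg, rfl⟩ h hh
    exact ⟨h * g, H.mul_mem hh hg, map_map _ _ _⟩
  · rintro _ ⟨g, hg, rfl⟩ _ ⟨h, hh, rfl⟩
    refine ⟨h * g⁻¹, H.mul_mem hh (H.inv_mem hg), ?_⟩
    rw [map_map]
    congr 2
    group
  · exact ⟨_, 1, H.one_mem, rfl⟩
  · rintro _ ⟨g, hg, rfl⟩ h0
    obtain ⟨a, ha, haZ⟩ := hA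
    apply haZ
    rw [hmap g hg] at h0
    have h1 : ∀ u, ρ a u = χ (g⁻¹ * a * g) • u := by
      intro u
      have : u ∈ Ws ρ A (fun a => χ (g⁻¹ * a * g)) := by rw [h0]; trivial
      exact this a ha
    rw [E.cen]
    rcases hχ (g⁻¹ * a * g) with h2 | h2
    · left
      apply LinearMap.ext
      intro u
      rw [h1, h2, one_smul]; rfl
    · right
      apply LinearMap.ext
      intro u
      rw [h1, h2, neg_one_smul]; rfl
  · rintro _ ⟨g, hg, rfl⟩ h0
    have h1 : ρ g v ∈ (Ws ρ A χ).map (ρ g) := ⟨v, hvW, rfl⟩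
    rw [h0, Submodule.mem_bot] at h1
    apply hv
    rw [← inv_ap ρ g v, h1, map_zero]

/-! ### consequences -/

variable {H : Subgroup G} {O : Set (Submodule F V)}

theorem Sys.nd (E : Env B ρ) (S : Sys B ρ H O) {W : Submodule F V} (hW : W ∈ O) {u : V} (hu : u ∈ W)
    (h : ∀ w ∈ W, B u w = 0) : u = 0 := by
  apply E.nd
  intro w
  have h1 : LinearMap.ker (B u) = ⊤ := by
    apply S.top
    intro W' hW' w hw
    rw [LinearMap.mem_ker]
    by_cases h2 : W = W'
    · subst h2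
      exact h w hw
    · exact S.orth W hW W' hW' h2 u hu w hw
  have h2 : w ∈ LinearMap.ker (B u) := by rw [h1]; trivial
  exact h2

theorem Sys.indep (E : Env B ρ) (S : Sys B ρ H O) : iSupIndep fun W : O => (W : Submodule F V) := by
  rw [iSupIndep_def]
  rintro ⟨W, hW⟩
  rw [Submodule.disjoint_def]
  intro u hu hu'
  apply S.nd E hW hu
  intro w hw
  have h1 : (⨆ j : O, ⨆ _ : j ≠ ⟨W, hW⟩, (j : Submodule F V)) ≤ LinearMap.ker (B w) := by
    refine iSup_le fun j => iSup_le fun hj => ?_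
    intro y hy
    rw [LinearMap.mem_ker]
    exact S.orth W hW j j.2 (fun h => hj (Subtype.ext h.symm)) w hw y hy
  rw [E.symm]
  exact h1 hu'

theorem Sys.finrank_eq (S : Sys B ρ H O) {W W' : Submodule F V} (hW : W ∈ O) (hW' : W' ∈ O) :
    finrank F W = finrank F W' := by
  obtain ⟨h, hh, rfl⟩ := S.trans W hW W' hW'
  have hinj : Function.Injective (ρ h) := fun u w hu => by rw [← inv_ap ρ h u, hu, inv_ap]
  exact LinearEquiv.finrank_eq (Submodule.equivMapOfInjective (ρ h) hinj W)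

theorem Sys.card_mul [Finite V] (E : Env B ρ) (S : Sys B ρ H O) {W : Submodule F V} (hW : W ∈ O) :
    Nat.card O * finrank F W = 8 := by
  classical
  have : FiniteDimensional F V := FiniteDimensional.of_finrank_pos (by rw [E.dim]; norm_num)
  have : Finite (Submodule F V) := Finite.of_injective (fun W => (W : Set V)) SetLike.coe_injective
  have : Fintype O := Fintype.ofFinite O
  have h1 : (⨆ W : O, (W : Submodule F V)) = ⊤ := S.top _ fun W hW =>
    le_iSup (fun W : O => (W : Submodule F V)) ⟨W, hW⟩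
  have hint := DirectSum.isInternal_submodule_of_iSupIndep_of_iSup_eq_top (S.indep E) h1
  let e : (DirectSum O fun W => (W : Submodule F V)) ≃ₗ[F] V :=
    LinearEquiv.ofBijective (DirectSum.coeLinearMap fun W : O => (W : Submodule F V)) hint
  have h2 := e.finrank_eq
  rw [Module.finrank_directSum, E.dim, Finset.sum_congr rfl fun (W' : O) _ => S.finrank_eq W'.2 hW, Finset.sum_const,
    Finset.card_univ, smul_eq_mul] at h2
  rw [Nat.card_eq_fintype_card]
  exact h2

/-- a moved member has three different translates under an element of order three -/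
theorem Sys.three {x : G} (hx : x ^ 3 = 1) {W : Submodule F V} (h : W.map (ρ x) ≠ W) :
    W ≠ W.map (ρ (x ^ 2)) ∧ W.map (ρ x) ≠ W.map (ρ (x ^ 2)) := by
  constructor
  · intro h1
    apply h
    nth_rewrite 1 [h1]
    rw [map_map, ← pow_succ', hx, map_one']
  · intro h1
    apply h
    have h2 := congrArg (fun U : Submodule F V => U.map (ρ (x ^ 2))) h1
    rw [map_map, map_map, ← pow_succ, ← pow_add, hx, map_one'] at h2
    have h3 : x ^ (2 + 2) = x := by
      rw [show 2 + 2 = 3 + 1 from rfl, pow_add, hx, one_mul, pow_one]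
    rw [h3] at h2
    exact h2.symm

/-- **elements of rank two fix all members of dimension at least two** -/
theorem Sys.fix [FiniteDimensional F V] (E : Env B ρ) (S : Sys B ρ H O) {x : G} {v : V} (T : Thr B ρ x v) (hx : x ∈ H)
    {W : Submodule F V} (hW : W ∈ O) (h2 : 2 ≤ finrank F W) : W.map (ρ x) = W := by
  by_contra hne
  obtain ⟨h3, h4⟩ := Sys.three T.x3 hne
  have hx1 : W.map (ρ x) ∈ O := S.inv W hW x hx
  have hx2 : W.map (ρ (x ^ 2)) ∈ O := S.inv W hW _ (H.pow_mem hx 2)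
  have h5 := le_rk ρ x W 2 (fun w hw h0 => by
    rw [Finset.sum_range_succ, Finset.sum_range_succ, Finset.sum_range_one, pow_zero, pow_one, one_ap] at h0
    have a1 : w 0 = 0 := by
      apply S.nd E hW (hw 0)
      intro k hk
      have e1 : w 0 = -(ρ x (w 1) + ρ (x ^ 2) (w 2)) := by
        rw [eq_neg_iff_add_eq_zero, ← h0]; abel
      rw [e1, map_neg, map_add, LinearMap.neg_apply, LinearMap.add_apply,
        S.orth _ hx1 _ hW hne _ ⟨w 1, hw 1, rfl⟩ k hk, S.orth _ hx2 _ hW (Ne.symm h3) _ ⟨w 2, hw 2, rfl⟩ k hk,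
        add_zero, neg_zero]
    have a2 : ρ x (w 1) = 0 := by
      apply S.nd E hx1 ⟨w 1, hw 1, rfl⟩
      intro k hk
      have e1 : ρ x (w 1) = -(w 0 + ρ (x ^ 2) (w 2)) := by
        rw [eq_neg_iff_add_eq_zero, ← h0]; abel
      rw [e1, map_neg, map_add, LinearMap.neg_apply, LinearMap.add_apply,
        S.orth _ hW _ hx1 (Ne.symm hne) _ (hw 0) k hk, S.orth _ hx2 _ hx1 (Ne.symm h4) _ ⟨w 2, hw 2, rfl⟩ k hk,
        add_zero, neg_zero]
    have a3 : ρ (x ^ 2) (w 2) = 0 := by
      rw [a1, a2, zero_add, zero_add] at h0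
      exact h0
    intro i hi
    interval_cases i
    · exact a1
    · rw [← inv_ap ρ x (w 1), a2, map_zero]
    · rw [← inv_ap ρ (x ^ 2) (w 2), a3, map_zero])
  have h6 := T.finrank_range
  omega

/-- **if `x` fixes all members, `[V,x]` is contained in one of them** -/
theorem Sys.le (E : Env B ρ) [FiniteDimensional F V] (S : Sys B ρ H O) {x : G} {v : V} (T : Thr B ρ x v)
    (hx : ∀ W ∈ O, W.map (ρ x) = W) : ∃ W ∈ O, LinearMap.range (ρ x - 1) ≤ W ∧ 2 ≤ finrank F (LinearMap.range (ρ x - 1)) := by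
  obtain ⟨W, hW, y, hy, hyy⟩ : ∃ W ∈ O, ∃ y ∈ W, B (ρ x y - y) (ρ x y - y) ≠ 0 := by
    by_contra hcon
    push Not at hcon
    have h1 : ∀ W ∈ O, ∀ y ∈ W, ∀ y' ∈ W, B (ρ x y - y) (ρ x y' - y') = 0 := by
      intro W hW y hy y' hy'
      have e1 := hcon W hW y hy
      have e2 := hcon W hW y' hy'
      have e3 := hcon W hW (y + y') (W.add_mem hy hy')
      have e4 : ρ x (y + y') - (y + y') = (ρ x y - y) + (ρ x y' - y') := by rw [map_add]; abel
      rw [e4, map_add, map_add, LinearMap.add_apply, LinearMap.add_apply, e1, e2, E.symm (ρ x y' - y')] at e3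
      have e5 : (2 : F) * B (ρ x y - y) (ρ x y' - y') = 0 := by linear_combination e3
      exact (mul_eq_zero.1 e5).resolve_left E.two
    have hxW : ∀ W ∈ O, ∀ y ∈ W, ρ x y - y ∈ W := by
      intro W hW y hy
      refine W.sub_mem ?_ hy
      have : ρ x y ∈ W.map (ρ x) := ⟨y, hy, rfl⟩
      rwa [hx W hW] at this
    have h2 : ∀ W ∈ O, ∀ y ∈ W, ∀ y', B (ρ x y - y) (ρ x y' - y') = 0 := by
      intro W hW y hy y'
      have h3 : LinearMap.ker ((B (ρ x y - y)).comp (ρ x - 1)) = ⊤ := by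
        apply S.top
        intro W' hW' y' hy'
        rw [LinearMap.mem_ker]
        show B (ρ x y - y) (ρ x y' - y') = 0
        by_cases hne : W = W'
        · subst hne
          exact h1 W hW y hy y' hy'
        · exact S.orth W hW W' hW' hne _ (hxW W hW y hy) _ (hxW W' hW' y' hy')
      have h4 : y' ∈ LinearMap.ker ((B (ρ x y - y)).comp (ρ x - 1)) := by rw [h3]; trivial
      exact h4
    have h3 : ∀ y y', B (ρ x y - y) (ρ x y' - y') = 0 := by
      intro y y'
      have h4 : LinearMap.ker ((B (ρ x y' - y')).comp (ρ x - 1)) = ⊤ := by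
        apply S.top
        intro W hW y hy
        rw [LinearMap.mem_ker]
        show B (ρ x y' - y') (ρ x y - y) = 0
        rw [E.symm]
        exact h2 W hW y hy y'
      have h5 : y ∈ LinearMap.ker ((B (ρ x y' - y')).comp (ρ x - 1)) := by rw [h4]; trivial
      rw [E.symm]
      exact h5
    have h4 := h3 (-(ρ x v + (2 : F) • v)) (-(ρ x v + (2 : F) • v))
    rw [T.mem, map_smul, map_smul, LinearMap.smul_apply, smul_eq_mul, smul_eq_mul, ← mul_assoc] at h4
    exact T.nz ((mul_eq_zero.1 h4).resolve_left (mul_ne_zero E.three E.three))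
  have hxW : ∀ y ∈ W, ρ x y ∈ W := by
    intro y hy
    have : ρ x y ∈ W.map (ρ x) := ⟨y, hy, rfl⟩
    rwa [hx W hW] at this
  -- `u = x y - y`
  obtain ⟨u, hu⟩ : ∃ u, u = ρ x y - y := ⟨_, rfl⟩
  rw [← hu] at hyy
  have huW : u ∈ W := by rw [hu]; exact W.sub_mem (hxW y hy) hy
  have hrel : ρ x (ρ x u) = -(u + ρ x u) := by
    have e1 : ρ x (ρ x (ρ x y)) = y := by
      rw [← mul_ap, ← mul_ap, ← pow_two, ← pow_succ, T.x3, one_ap]
    rw [hu, map_sub, map_sub, e1]
    abel
  have hli : LinearIndependent F ![u, ρ x u] := by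
    rw [LinearIndependent.pair_iff]
    intro s t hst
    have hb : B u (ρ x u) = B (ρ x u) (ρ x (ρ x u)) := (E.iso x _ _).symm
    have hb2 : B (ρ x u) (ρ x u) = B u u := E.iso x _ _
    rw [hrel, map_neg, map_add, hb2, E.symm (ρ x u) u] at hb
    have hb3 : 2 * B u (ρ x u) = -B u u := by linear_combination hb
    have e1 := congrArg (B u) hst
    have e2 := congrArg (B (ρ x u)) hst
    rw [map_add, map_smul, map_smul, map_zero, smul_eq_mul, smul_eq_mul] at e1 e2
    rw [hb2, E.symm (ρ x u) u] at e2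
    -- `2 s - t = 0`, `- s + 2 t = 0` times `B u u`
    have f1 : B u u * (2 * s - t) = 0 := by linear_combination 2 * e1 - t * hb3
    have f2 : B u u * (2 * t - s) = 0 := by linear_combination 2 * e2 - s * hb3
    have g1 := (mul_eq_zero.1 f1).resolve_left hyy
    have g2 := (mul_eq_zero.1 f2).resolve_left hyy
    have k1 : 3 * s = 0 := by linear_combination 2 * g1 + g2
    have k2 : 3 * t = 0 := by linear_combination 2 * g2 + g1
    exact ⟨(mul_eq_zero.1 k1).resolve_left E.three, (mul_eq_zero.1 k2).resolve_left E.three⟩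
  have hspan : finrank F (Submodule.span F (Set.range ![u, ρ x u])) = 2 := by
    rw [finrank_span_eq_card hli, Fintype.card_fin]
  have hle : Submodule.span F (Set.range ![u, ρ x u]) ≤ LinearMap.range (ρ x - 1) := by
    rw [Submodule.span_le]
    rintro _ ⟨i, rfl⟩
    fin_cases i
    · exact ⟨y, hu.symm⟩
    · refine ⟨ρ x y, ?_⟩
      show ρ x (ρ x y) - ρ x y = ρ x u
      rw [hu, map_sub]
  have heq := Submodule.eq_of_le_of_finrank_le hle (by rw [hspan]; exact T.finrank_range)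
  refine ⟨W, hW, ?_, ?_⟩
  · rw [← heq, Submodule.span_le]
    rintro _ ⟨i, rfl⟩
    fin_cases i
    · exact huW
    · exact hxW u huW
  · rw [← heq, hspan]

end Cfsg.Agent.H358.D4
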